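import Groth.Agent.HT92.Psi

/-!
# Morphisms from the dual number thickening and derivations
-/

set_option autoImplicit false

noncomputable section

universe u

open CategoryTheory CategoryTheory.Limits AlgebraicGeometry Opposite TopologicalSpace OmegaSh
open Groth.Agent.Lib.Kaehler.Basic Groth.Agent.Lib.ArtinFun

namespace Groth.Agent.HT92.Bij

open Psi

variable {k : Type u} [Field k] {X Y : Scheme.{u}} (x : X ⟶ Spec (CommRingCat.of k))
  {y : Y ⟶ Spec (CommRingCat.of k)} {f : X ⟶ Y}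

/-- The section of the thickening. -/
def sec : X ⟶ T x (DualNumber k) :=
  pullback.lift (𝟙 X) (x ≫ Spec.map (CommRingCat.ofHom (TrivSqZeroExt.fstHom k k k).toRingHom)) (by
    rw [Category.id_comp, Category.assoc, ← Spec.map_comp, ← CommRingCat.ofHom_comp,
      show (TrivSqZeroExt.fstHom k k k).toRingHom.comp (algebraMap k (DualNumber k)) = RingHom.id k from
        RingHom.ext fun c => rfl, CommRingCat.ofHom_id]
    erw [Spec.map_id, Category.comp_id])

/-- The thickening as data. -/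
abbrev dat : DualThick.Data k X x where
  T := T x (DualNumber k)
  q := qT x (DualNumber k)
  p := pT x (DualNumber k)
  sq := IsPullback.of_hasPullback _ _
  i := sec x
  iq := pullback.lift_fst _ _ _
  ip := pullback.lift_snd _ _ _

lemma eps_eq (V : (T x (DualNumber k)).Opens) :
    DualThick.eps (dat x) V = cst x (DualNumber k) V DualNumber.eps := rfl

lemma eps_sq : (DualNumber.eps : DualNumber k) * DualNumber.eps = 0 := DualNumber.eps_mul_eps

variable (y f) in
/-- The morphism `a ↦ a + ε δ a`. -/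
abbrev ψ1 (δ : DerF y f) : T x (DualNumber k) ⟶ Y :=
  ψ x (DualNumber.eps : DualNumber k) 0 eps_sq (mul_zero _) (mul_zero _) δ δ

lemma ψ1_appLE (δ : DerF y f) (V : Y.Opens)
    (e : qT x (DualNumber k) ⁻¹ᵁ (f ⁻¹ᵁ V) ≤ ψ1 x y f δ ⁻¹ᵁ V) (a : Γ(Y, V)) :
    ((ψ1 x y f δ).appLE V _ e).hom a = DualThick.qs (dat x) (f ⁻¹ᵁ V) ((f.app V).hom a) +
      DualThick.eps (dat x) _ * DualThick.qs (dat x) (f ⁻¹ᵁ V) (dl δ V a) := by
  rw [ψ_appLE, φ_apply, map_zero, zero_mul, add_zero]
  rfl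

theorem sec_ψ1 (δ : DerF y f) : sec x ≫ ψ1 x y f δ = f := by
  refine Scheme.Hom.ext (?hb : (sec x ≫ ψ1 x y f δ).base = _) fun V => ?_
  case hb =>
    show (sec x).base ≫ (qT x (DualNumber k) ≫ f).base = _
    rw [← Scheme.Hom.comp_base, ← Category.assoc, sec, pullback.lift_fst, Category.id_comp]
  ext a
  have e := ψ1_appLE x δ V le_rfl a
  show DualThick.is' (dat x) (f ⁻¹ᵁ V) (φ x (DualNumber.eps : DualNumber k) 0 eps_sq (mul_zero _) (mul_zero _) δ δ V a) = _
  rw [φ_apply, map_zero, zero_mul, add_zero]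
  show DualThick.is' (dat x) (f ⁻¹ᵁ V) (DualThick.qs (dat x) (f ⁻¹ᵁ V) _ +
    DualThick.eps (dat x) _ * DualThick.qs (dat x) (f ⁻¹ᵁ V) _) = _
  rw [map_add, map_mul, DualThick.is_qs, DualThick.is_eps, zero_mul, add_zero]

theorem ψ1_injective {δ δ' : DerF y f} (h : ψ1 x y f δ = ψ1 x y f δ') : δ = δ' := by
  refine der_ext fun V a => ?_
  have e : ∀ g g' : T x (DualNumber k) ⟶ Y, g = g' → ∀ e e',
      (g.appLE V (qT x (DualNumber k) ⁻¹ᵁ (f ⁻¹ᵁ V)) e).hom a = (g'.appLE V _ e').hom a := by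
    rintro g _ rfl _ _; rfl
  have := e _ _ h le_rfl le_rfl
  rw [ψ1_appLE, ψ1_appLE, add_right_inj] at this
  exact DualThick.eps_mul_inj (dat x) this

/-- Every morphism restricting to `f` comes from a derivation. -/
theorem exists_der (g : T x (DualNumber k) ⟶ Y) (hg : sec x ≫ g = f) (hgy : g ≫ y = qT x (DualNumber k) ≫ x)
    (hf : f ≫ y = x) : ∃ δ : DerF y f, g = ψ1 x y f δ := by
  classical
  let D := dat x
  have hb : ∀ t, g t = f (D.q t) := fun t => by
    rw [← Scheme.Hom.comp_apply D.q f]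
    exact DualThick.base_eq D (g := g) (g' := D.q ≫ f) (by
      rw [← Category.assoc, D.iq, Category.id_comp]; exact hg) t
  have hpre : ∀ V : Y.Opens, D.q ⁻¹ᵁ (f ⁻¹ᵁ V) ≤ g ⁻¹ᵁ V := fun V t ht => by
    show g t ∈ V
    rw [hb]
    exact ht
  have hk : ∀ V (a : Γ(Y, V)), DualThick.is' D (f ⁻¹ᵁ V)
      ((g.appLE V (D.q ⁻¹ᵁ (f ⁻¹ᵁ V)) (hpre V)).hom a - DualThick.qs D _ ((f.app V).hom a)) = 0 := fun V a => by
    rw [map_sub, DualThick.is_qs, sub_eq_zero]
    show (g.appLE V _ (hpre V) ≫ D.i.appLE _ _ (DualThick.i_preimage D _)).hom a = (f.app V).hom a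
    rw [Scheme.Hom.appLE_comp_appLE, Scheme.Hom.app_eq_appLE]
    simp only [D, show (dat x).i ≫ g = f from hg]
  choose d hd using fun V a => DualThick.exists_eps_mul D (hk V a)
  have hd' : ∀ V a, (g.appLE V (D.q ⁻¹ᵁ (f ⁻¹ᵁ V)) (hpre V)).hom a =
      DualThick.qs D _ ((f.app V).hom a) + DualThick.eps D _ * DualThick.qs D _ (d V a) :=
    fun V a => by rw [← hd]; ring
  let dA : ∀ V : Y.Opens, Γ(Y, V) →+ Γ((Scheme.Modules.pushforward f).obj (Coh.structureModule X), V) := fun V =>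
    ((strSect X (f ⁻¹ᵁ V)).comp (AddMonoidHom.mk' (d V) fun a b => DualThick.eps_mul_inj D (by
      rw [← hd, map_add, map_add, map_add, map_add, mul_add, ← hd, ← hd]; ring)) :
      Γ(Y, V) →+ Γ(Coh.structureModule X, f ⁻¹ᵁ V))
  have hmul : ∀ V a b, d V (a * b) = (f.app V).hom a * d V b + (f.app V).hom b * d V a :=
    fun V a b => DualThick.eps_mul_inj D (by
      rw [← hd, map_mul, map_mul, map_mul, map_add, map_mul, map_mul, hd', hd']
      linear_combination (DualThick.qs D _ (d V a) * DualThick.qs D _ (d V b)) *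
        DualThick.eps_mul_eps D (D.q ⁻¹ᵁ (f ⁻¹ᵁ V)))
  have hres : ∀ U W (e : W ≤ U) (a : Γ(Y, U)),
      d W ((Y.presheaf.map (homOfLE e).op).hom a) = (X.presheaf.map (homOfLE (f.preimage_mono e)).op).hom (d U a) :=
    fun U W e a => DualThick.eps_mul_inj D (by
      have hn : (f.app W).hom ((Y.presheaf.map (homOfLE e).op).hom a) =
          (X.presheaf.map (homOfLE (f.preimage_mono e)).op).hom ((f.app U).hom a) :=
        congr($(f.naturality (homOfLE e).op) a)
      rw [← hd, hn, ← DualThick.qs_res D (f.preimage_mono e), ← DualThick.qs_res D (f.preimage_mono e),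
        ← DualThick.eps_res D (D.q.preimage_mono (f.preimage_mono e)), ← map_mul, ← hd, map_sub]
      congr 1
      rw [← CommRingCat.comp_apply, ← CommRingCat.comp_apply, Scheme.Hom.map_appLE, Scheme.Hom.appLE_map])
  have hbase : ∀ V c, d (y ⁻¹ᵁ V) ((y.app V).hom c) = 0 := fun V c => DualThick.eq_zero_of_eps_mul D (by
    rw [← hd, sub_eq_zero]
    show (y.app V ≫ g.appLE _ _ (hpre _)).hom c = (y.app V ≫ f.app _ ≫ D.q.app _).hom c
    simp only [Scheme.Hom.app_eq_appLE, Scheme.Hom.appLE_comp_appLE]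
    have : g ≫ y = D.q ≫ f ≫ y := by rw [hf]; exact hgy
    simp only [this, Category.assoc])
  let δ : DerF y f := derMk dA hmul hres hbase
  refine ⟨δ, eq_ψ x _ _ _ _ _ _ _ g (TopCat.hom_ext (ContinuousMap.ext hb)) fun V e a => ?_⟩
  rw [φ_apply, map_zero, zero_mul, add_zero]
  exact hd' V a

section Linear

variable [X.Over (Spec (CommRingCat.of k))] [Y.Over (Spec (CommRingCat.of k))]

omit x in
/-- The derivation of a homomorphism out of `Ω`. -/
def der (q : Y ⟶ Spec (CommRingCat.of k)) [QuasiSeparated q]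
    (α : Omega.sheaf q ⟶ (Scheme.Modules.pushforward f).obj (Coh.structureModule X)) : DerF q f :=
  derComp (dOmega q) α

omit [Y.Over (Spec (CommRingCat.of k))] in
lemma cst_algebraMap {B : Type u} [CommRing B] [Algebra k B] (c : k) (U : X.Opens) :
    cst x B (qT x B ⁻¹ᵁ U) (algebraMap k B c) =
      ((qT x B).app U).hom ((X.presheaf.map (homOfLE (le_top : U ≤ ⊤)).op).hom (Coh.toGlobal x c)) := by
  have h1 : ((qT x B).app U).hom ((X.presheaf.map (homOfLE (le_top : U ≤ ⊤)).op).hom (Coh.toGlobal x c)) =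
      ((qT x B ≫ x).appLE ⊤ (qT x B ⁻¹ᵁ U) le_top).hom
        ((Scheme.ΓSpecIso (CommRingCat.of k)).inv.hom c) := by
    rw [← Scheme.Hom.appLE_comp_appLE (qT x B) x ⊤ U _ le_top le_rfl, CommRingCat.comp_apply,
      Scheme.Hom.app_eq_appLE]
    exact congrArg ((qT x B).appLE U _ le_rfl).hom rfl
  rw [h1]
  simp only [show qT x B ≫ x = pT x B ≫ Spec.map (CommRingCat.ofHom (algebraMap k B)) from pullback.condition]
  rw [← Scheme.Hom.appLE_comp_appLE (pT x B) (Spec.map (CommRingCat.ofHom (algebraMap k B))) ⊤ ⊤ _ le_top le_top,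
    show (Spec.map (CommRingCat.ofHom (algebraMap k B))).appLE ⊤ ⊤ le_top =
      (Spec.map (CommRingCat.ofHom (algebraMap k B))).app ⊤ from Scheme.Hom.appLE_eq_app _,
    CommRingCat.comp_apply]
  refine congrArg ((pT x B).appLE ⊤ _ le_top).hom ?_
  exact congr(($(Scheme.ΓSpecIso_inv_naturality (CommRingCat.ofHom (algebraMap k B)))).hom c)

/-- Linear combinations. -/
theorem ψ_comb [f.IsOver (Spec (CommRingCat.of k))] [QuasiSeparated (Y ↘ Spec (CommRingCat.of k))]
    (c₁ c₂ : k) (e₁₁ : (c₁ • DualNumber.eps : DualNumber k) * c₁ • DualNumber.eps = 0)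
    (e₁₂ : (c₁ • DualNumber.eps : DualNumber k) * c₂ • DualNumber.eps = 0)
    (e₂₂ : (c₂ • DualNumber.eps : DualNumber k) * c₂ • DualNumber.eps = 0)
    (α β : Omega.sheaf (Y ↘ Spec (CommRingCat.of k)) ⟶
      (Scheme.Modules.pushforward f).obj (Coh.structureModule X)) :
    ψ (X ↘ Spec (CommRingCat.of k)) (c₁ • DualNumber.eps) (c₂ • DualNumber.eps) e₁₁ e₁₂ e₂₂
        (der _ α) (der _ β) =
      ψ1 (X ↘ Spec (CommRingCat.of k)) (Y ↘ Spec (CommRingCat.of k)) f (der _ (c₁ • α + c₂ • β)) := by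
  refine eq_ψ _ _ _ _ _ _ _ _ _ rfl fun V e a => ?_
  rw [ψ_appLE, φ_apply, φ_apply, map_zero, zero_mul, add_zero, Algebra.smul_def, Algebra.smul_def, map_mul,
    map_mul, cst_algebraMap, cst_algebraMap, add_assoc]
  congr 1
  have key : dl (der _ (c₁ • α + c₂ • β)) V a =
      (X.presheaf.map (homOfLE (le_top : f ⁻¹ᵁ V ≤ ⊤)).op).hom (Coh.toGlobal (X ↘ Spec (CommRingCat.of k)) c₁) *
          dl (der _ α) V a +
        (X.presheaf.map (homOfLE (le_top : f ⁻¹ᵁ V ≤ ⊤)).op).hom (Coh.toGlobal (X ↘ Spec (CommRingCat.of k)) c₂) *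
          dl (der _ β) V a := by
    rw [KLin.res_toGlobal_eq_app f c₁ V, KLin.res_toGlobal_eq_app f c₂ V]
    show fnSect X (f ⁻¹ᵁ V) ((c₁ • α).app V _ + (c₂ • β).app V _) = _
    rw [KLin.smul_app_apply, KLin.smul_app_apply]
    rfl
  rw [key, map_add, map_mul, map_mul]
  ring

end Linear

end Groth.Agent.HT92.Bij
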