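import Groth.Agent.HT92.Tangent
import Groth.Agent.HT92.Bij
import Groth.Agent.Lib.ArtinFun.NormalH0
import Groth.Agent.Lib.Kaehler.DOmega

/-!
# The tangent space of a scheme of morphisms
-/

set_option autoImplicit false

noncomputable section

universe u

open CategoryTheory CategoryTheory.Limits MonoidalCategory CartesianMonoidalCategory AlgebraicGeometry OmegaSh
open Groth.Agent.Lib.Kaehler.Basic

namespace Groth.Agent.HT92.Main

open Psi Bij

variable {k : Type u} [Field k]

lemma exists_hom {R : CommRingCat.{u}} [IsLocalRing R] {M : Scheme.{u}} (t : Spec R ⟶ M) (x₀ : M)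
    (h : t (IsLocalRing.closedPoint R) = x₀) :
    ∃ g : M.presheaf.stalk x₀ ⟶ R, Spec.map g ≫ M.fromSpecStalk x₀ = t := by
  subst h
  exact ⟨_, Scheme.Spec_stalkClosedPointTo_fromSpecStalk t⟩

lemma spec_closedPoint {B C : Type u} [CommRing B] [CommRing C] [IsLocalRing B] [IsLocalRing C]
    (φ : B →+* C) [IsLocalHom φ] :
    Spec.map (CommRingCat.ofHom φ) (IsLocalRing.closedPoint C) = IsLocalRing.closedPoint B :=
  IsLocalRing.comap_closedPoint φ

lemma isLocalHom_of_fst {P : Type u} [AddCommGroup P] [Module k P] [Module kᵐᵒᵖ P] [IsCentralScalar k P]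
    {Q : Type u} [AddCommGroup Q] [Module k Q] [Module kᵐᵒᵖ Q] [IsCentralScalar k Q]
    (j : TrivSqZeroExt k P →+* TrivSqZeroExt k Q)
    (hj : ∀ b, TrivSqZeroExt.fst (j b) = TrivSqZeroExt.fst b) : IsLocalHom j :=
  ⟨fun b hb => by
    rw [TrivSqZeroExt.isUnit_iff_isUnit_fst] at hb ⊢
    rwa [hj] at hb⟩

/-- `k ⊕ k²`. -/
abbrev B2 (k : Type u) [Field k] : Type u := TrivSqZeroExt k (k × k)

instance : IsLocalRing (B2 k) :=
  IsLocalRing.of_isUnit_or_isUnit_one_sub_self fun a => by
    rw [TrivSqZeroExt.isUnit_iff_isUnit_fst, TrivSqZeroExt.isUnit_iff_isUnit_fst, TrivSqZeroExt.fst_sub,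
      TrivSqZeroExt.fst_one]
    by_cases h : TrivSqZeroExt.fst a = 0
    · exact Or.inr (by rw [h, sub_zero]; exact isUnit_one)
    · exact Or.inl (Ne.isUnit h)

/-- Projections of `k ⊕ k²`. -/
def proj (c₁ c₂ : k) : B2 k →ₐ[k] DualNumber k :=
  TrivSqZeroExt.map (c₁ • LinearMap.fst k k k + c₂ • LinearMap.snd k k k)

lemma snd_proj (c₁ c₂ : k) (b : B2 k) : TrivSqZeroExt.snd (proj c₁ c₂ b) =
    c₁ * (TrivSqZeroExt.snd b).1 + c₂ * (TrivSqZeroExt.snd b).2 := by
  rw [proj, TrivSqZeroExt.snd_map]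
  simp

lemma proj_e (c₁ c₂ : k) : proj c₁ c₂ (TrivSqZeroExt.inr ((1, 0) : k × k)) = c₁ • (DualNumber.eps : DualNumber k) ∧
    proj c₁ c₂ (TrivSqZeroExt.inr ((0, 1) : k × k)) = c₂ • (DualNumber.eps : DualNumber k) := by
  constructor <;> · rw [proj, TrivSqZeroExt.map_inr]; ext <;> simp

variable {X Y : Scheme.{u}} [X.Over (Spec (CommRingCat.of k))] [Y.Over (Spec (CommRingCat.of k))]

local notation "SS" => Spec (CommRingCat.of k)

/-- `Spec B` over `k`. -/
abbrev SB (B : Type u) [CommRing B] [Algebra k B] : Over (Spec (CommRingCat.of k)) :=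
  Over.mk (Spec.map (CommRingCat.ofHom (algebraMap k B)))

/-- The map of spectra over `k`. -/
abbrev SBmap {B C : Type u} [CommRing B] [Algebra k B] [CommRing C] [Algebra k C] (j : B →ₐ[k] C) :
    SB (k := k) C ⟶ SB B :=
  Over.homMk (Spec.map (CommRingCat.ofHom j.toRingHom)) (by
    show Spec.map _ ≫ Spec.map _ = Spec.map _
    rw [← Spec.map_comp, ← CommRingCat.ofHom_comp]
    exact congrArg (fun r => Spec.map (CommRingCat.ofHom r)) j.comp_algebraMap)

set_option maxHeartbeats 1600000 in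
theorem finrank_cotangentSpace (f : X ⟶ Y) [f.IsOver SS] [QuasiSeparated (Y ↘ SS)]
    (M : Over SS) (υ : Over.mk (X ↘ SS) ⊗ M ⟶ Over.mk (Y ↘ SS))
    (hM : ∀ (T : Over SS) (φ : Over.mk (X ↘ SS) ⊗ T ⟶ Over.mk (Y ↘ SS)),
      ∃! a : T ⟶ M, (Over.mk (X ↘ SS) ◁ a) ≫ υ = φ)
    (af : 𝟙_ (Over SS) ⟶ M)
    (haf : (Over.mk (X ↘ SS) ◁ af) ≫ υ =
      (ρ_ (Over.mk (X ↘ SS))).hom ≫ (Over.homMk f (comp_over f SS) : Over.mk (X ↘ SS) ⟶ Over.mk (Y ↘ SS))) :
    Module.finrank (IsLocalRing.ResidueField (M.left.presheaf.stalk (af.left.base (IsLocalRing.closedPoint k))))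
        (IsLocalRing.CotangentSpace (M.left.presheaf.stalk (af.left.base (IsLocalRing.closedPoint k)))) =
      Module.finrank k ((Omega.sheaf (Y ↘ SS)) ⟶ (Scheme.Modules.pushforward f).obj (Coh.structureModule X)) := by
  classical
  let x := X ↘ SS
  let y := Y ↘ SS
  have hf : f ≫ y = x := comp_over f SS
  let Xo : Over SS := Over.mk x
  let x₀ : M.left := af.left.base (IsLocalRing.closedPoint k)
  let O := M.left.presheaf.stalk x₀
  let fs := M.left.fromSpecStalk x₀
  let σ' : CommRingCat.of k ⟶ O := Spec.preimage (fs ≫ M.hom)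
  have hσ : Spec.map σ' = fs ≫ M.hom := Spec.map_preimage _
  obtain ⟨res', hres'⟩ := exists_hom (R := CommRingCat.of k) af.left x₀ rfl
  let σ : k →+* O := σ'.hom
  let res : O →+* k := res'.hom
  have hres : ∀ c, res (σ c) = c := fun c => by
    have e : σ' ≫ res' = 𝟙 (CommRingCat.of k) := by
      apply Spec.map_injective
      rw [Spec.map_comp, hσ, Spec.map_id]
      exact (Category.assoc _ _ _).symm.trans ((congrArg (· ≫ M.hom) hres').trans (Over.w af))
    exact congr(($e).hom c)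
  -- the closed point
  let s₀ : 𝟙_ (Over SS) ⟶ SB (k := k) (DualNumber k) :=
    Over.homMk (Spec.map (CommRingCat.ofHom (TrivSqZeroExt.fstHom k k k).toRingHom)) (by
      show Spec.map _ ≫ Spec.map _ = 𝟙 _
      exact Lib.ArtinFun.DualThick.specMap_fst_inl)
  have hwl : (Xo ◁ s₀).left = pullback.fst x (𝟙 _) ≫ sec x := by
    refine pullback.hom_ext ?_ ?_
    · refine (Over.whiskerLeft_left_fst s₀).trans (Eq.symm ?_)
      exact (Category.assoc _ _ _).trans ((congrArg (pullback.fst x (𝟙 _) ≫ ·)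
        (pullback.lift_fst _ _ _)).trans (Category.comp_id _))
    · refine (Over.whiskerLeft_left_snd s₀).trans (Eq.symm ?_)
      refine (Category.assoc _ _ _).trans ((congrArg (pullback.fst x (𝟙 _) ≫ ·)
        (pullback.lift_snd _ _ _)).trans ?_)
      rw [← Category.assoc, pullback.condition (f := x) (g := 𝟙 _), Category.comp_id]
      rfl
  have hrestrict : ∀ t : SB (k := k) (DualNumber k) ⟶ M,
      s₀ ≫ t = af ↔ sec x ≫ ((Xo ◁ t) ≫ υ).left = f := fun t => by
    constructor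
    · intro h
      have e : (Xo ◁ s₀) ≫ (Xo ◁ t) ≫ υ = (ρ_ Xo).hom ≫ (Over.homMk f hf : Xo ⟶ Over.mk y) := by
        rw [← Category.assoc, ← MonoidalCategory.whiskerLeft_comp, h]
        exact haf
      have e' := congrArg Over.Hom.left e
      rw [Over.comp_left, hwl, Category.assoc] at e'
      exact (cancel_epi (pullback.fst x (𝟙 _))).1 e'
    · intro h
      refine (hM _ _).unique ?_ haf
      rw [MonoidalCategory.whiskerLeft_comp, Category.assoc]
      refine Over.OverMorphism.ext ?_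
      rw [Over.comp_left, hwl, Category.assoc]
      exact congrArg (pullback.fst x (𝟙 _) ≫ ·) h
  have hclosed : ∀ t : SB (k := k) (DualNumber k) ⟶ M, s₀ ≫ t = af →
      t.left.base (IsLocalRing.closedPoint (DualNumber k)) = x₀ := fun t h => by
    haveI : IsLocalHom (TrivSqZeroExt.fstHom k k k).toRingHom :=
      ⟨fun b hb => TrivSqZeroExt.isUnit_iff_isUnit_fst.2 hb⟩
    rw [← spec_closedPoint (TrivSqZeroExt.fstHom k k k).toRingHom]
    exact congr($(congrArg Over.Hom.left h) (IsLocalRing.closedPoint k))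
  have hring : ∀ t : SB (k := k) (DualNumber k) ⟶ M, s₀ ≫ t = af →
      ∃ g : O →+* DualNumber k, Spec.map (CommRingCat.ofHom g) ≫ fs = t.left ∧
        (∀ r, TrivSqZeroExt.fst (g r) = res r) ∧ ∀ c, g (σ c) = TrivSqZeroExt.inl c := fun t h => by
    obtain ⟨g, hg⟩ := exists_hom (R := CommRingCat.of (DualNumber k)) t.left x₀ (hclosed t h)
    refine ⟨g.hom, hg, fun r => ?_, fun c => ?_⟩
    · have e : g ≫ CommRingCat.ofHom (TrivSqZeroExt.fstHom k k k).toRingHom = res' := by
        apply Spec.map_injective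
        rw [← cancel_mono fs, Spec.map_comp, Category.assoc, hg, hres']
        exact congrArg Over.Hom.left h
      exact congr(($e).hom r)
    · have e : σ' ≫ g = CommRingCat.ofHom (algebraMap k (DualNumber k)) := by
        apply Spec.map_injective
        rw [Spec.map_comp, hσ]
        exact (Category.assoc _ _ _).symm.trans ((congrArg (· ≫ M.hom) hg).trans (Over.w t))
      exact congr(($e).hom c)
  -- the map
  let Φ₁ (α : Omega.sheaf y ⟶ (Scheme.Modules.pushforward f).obj (Coh.structureModule X)) :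
      Xo ⊗ SB (k := k) (DualNumber k) ⟶ Over.mk y :=
    Over.homMk (ψ1 x y f (der y α)) (ψ_comp x hf _ _ _ _ _ _ _)
  let t (α) : SB (k := k) (DualNumber k) ⟶ M := (hM _ (Φ₁ α)).choose
  have ht : ∀ α, (Xo ◁ t α) ≫ υ = Φ₁ α := fun α => (hM _ (Φ₁ α)).choose_spec.1
  have ht₀ : ∀ α, s₀ ≫ t α = af := fun α =>
    (hrestrict _).2 ((congrArg (fun z => sec x ≫ z) (congrArg Over.Hom.left (ht α))).trans (sec_ψ1 x _))
  choose g hg₁ hg₂ hg₃ using fun α => hring (t α) (ht₀ α)
  have hmem : ∀ α, (fun r => TrivSqZeroExt.snd (g α r)) ∈ Tangent.tder σ res := fun α => by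
    refine ⟨fun a b => by simp, fun a b => ?_, fun c => ?_⟩
    · simp only [map_mul, TrivSqZeroExt.snd_mul, hg₂, op_smul_eq_smul, smul_eq_mul]
    · simp only [hg₃, TrivSqZeroExt.snd_inl]
  -- linearity
  have hlin : ∀ (c₁ c₂ : k) α β r, TrivSqZeroExt.snd (g (c₁ • α + c₂ • β) r) =
      c₁ * TrivSqZeroExt.snd (g α r) + c₂ * TrivSqZeroExt.snd (g β r) := by
    intro c₁ c₂ α β r
    let e₁ : B2 k := TrivSqZeroExt.inr ((1, 0) : k × k)
    let e₂ : B2 k := TrivSqZeroExt.inr ((0, 1) : k × k)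
    let φ₂ : Xo ⊗ SB (k := k) (B2 k) ⟶ Over.mk y :=
      Over.homMk (ψ x e₁ e₂ (TrivSqZeroExt.inr_mul_inr _ _ _) (TrivSqZeroExt.inr_mul_inr _ _ _)
        (TrivSqZeroExt.inr_mul_inr _ _ _) (der y α) (der y β)) (ψ_comp x hf _ _ _ _ _ _ _)
    obtain ⟨t₂, ht₂, -⟩ := hM _ φ₂
    have hj : ∀ d₁ d₂ : k, SBmap (proj d₁ d₂) ≫ t₂ = t (d₁ • α + d₂ • β) := fun d₁ d₂ => by
      refine (hM _ (Φ₁ (d₁ • α + d₂ • β))).unique ?_ (ht _)
      rw [MonoidalCategory.whiskerLeft_comp, Category.assoc, ht₂]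
      refine Over.OverMorphism.ext ?_
      show mapT x (proj d₁ d₂) ≫ ψ x e₁ e₂ _ _ _ _ _ = _
      obtain ⟨p₁, p₂⟩ := proj_e d₁ d₂
      have z : ∀ (a b : k), (a • DualNumber.eps : DualNumber k) * b • DualNumber.eps = 0 := fun a b => by
        rw [smul_mul_smul_comm, DualNumber.eps_mul_eps, smul_zero]
      rw [mapT_ψ x e₁ e₂ _ _ _ _ _ (proj d₁ d₂) (by rw [p₁]; exact z _ _) (by rw [p₁, p₂]; exact z _ _)
        (by rw [p₂]; exact z _ _)]
      simp only [e₁, e₂, p₁, p₂]
      exact ψ_comb d₁ d₂ (z _ _) (z _ _) (z _ _) α β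
    haveI : ∀ d₁ d₂ : k, IsLocalHom (proj d₁ d₂).toRingHom := fun d₁ d₂ =>
      isLocalHom_of_fst _ fun b => TrivSqZeroExt.fst_map _ b
    have hp₂ : t₂.left.base (IsLocalRing.closedPoint (B2 k)) = x₀ := by
      rw [← spec_closedPoint (proj (1 : k) 0).toRingHom]
      exact (congr($(congrArg Over.Hom.left (hj 1 0)) (IsLocalRing.closedPoint (DualNumber k)))).trans
        (hclosed _ (ht₀ _))
    obtain ⟨g₂, hg₂'⟩ := exists_hom (R := CommRingCat.of (B2 k)) t₂.left x₀ hp₂
    have hgj : ∀ (d₁ d₂ : k) (γ), γ = d₁ • α + d₂ • β → TrivSqZeroExt.snd (g γ r) =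
        d₁ * (TrivSqZeroExt.snd (g₂.hom r : B2 k)).1 + d₂ * (TrivSqZeroExt.snd (g₂.hom r : B2 k)).2 := by
      rintro d₁ d₂ γ rfl
      have e : CommRingCat.ofHom (g (d₁ • α + d₂ • β)) = g₂ ≫ CommRingCat.ofHom (proj d₁ d₂).toRingHom := by
        apply Spec.map_injective
        rw [← cancel_mono fs, hg₁, Spec.map_comp, Category.assoc, hg₂']
        exact (congrArg Over.Hom.left (hj d₁ d₂)).symm
      rw [show g (d₁ • α + d₂ • β) r = proj d₁ d₂ (g₂.hom r) from congr(($e).hom r), snd_proj]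
    rw [hgj c₁ c₂ _ rfl, hgj 1 0 α (by simp), hgj 0 1 β (by simp)]
    simp
  let Ψ : (Omega.sheaf y ⟶ (Scheme.Modules.pushforward f).obj (Coh.structureModule X)) →ₗ[k]
      Tangent.tder σ res :=
    { toFun := fun α => ⟨_, hmem α⟩
      map_add' := fun α β => Subtype.ext (funext fun r => by
        have h := hlin 1 1 α β r
        simp only [one_smul, one_mul] at h
        exact h)
      map_smul' := fun c α => Subtype.ext (funext fun r => by
        have h := hlin c 0 α α r
        simp only [zero_smul, add_zero, zero_mul] at h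
        exact h) }
  have hu := (isUniversal_iff (dOmega y)).1 (Groth.Agent.Lib.Kaehler.DOmega.isUniversal_dOmega y)
    ((Scheme.Modules.pushforward f).obj (Coh.structureModule X))
  have hΨ : Function.Bijective Ψ := by
    constructor
    · intro α β h
      have h1 : g α = g β := RingHom.ext fun r => TrivSqZeroExt.ext ((hg₂ α r).trans (hg₂ β r).symm)
        (congrFun (congrArg Subtype.val h) r)
      have h2 : t α = t β := Over.OverMorphism.ext (by rw [← hg₁, ← hg₁, h1])
      have h3 : ψ1 x y f (der y α) = ψ1 x y f (der y β) :=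
        congrArg Over.Hom.left ((ht α).symm.trans ((by rw [h2] : _ = (Xo ◁ t β) ≫ υ).trans (ht β)))
      exact hu.1 (ψ1_injective x h3)
    · rintro ⟨w, hw⟩
      let gw : O →+* DualNumber k := Tangent.homOf σ res w hw
      let tw : SB (k := k) (DualNumber k) ⟶ M := Over.homMk (Spec.map (CommRingCat.ofHom gw) ≫ fs) (by
        show (Spec.map _ ≫ fs) ≫ M.hom = Spec.map _
        rw [Category.assoc, ← hσ, ← Spec.map_comp]
        refine congrArg Spec.map (CommRingCat.hom_ext (RingHom.ext fun c => ?_))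
        show TrivSqZeroExt.inl (res (σ c)) + TrivSqZeroExt.inr (w (σ c)) = TrivSqZeroExt.inl c
        rw [hres, hw.2.2, TrivSqZeroExt.inr_zero, add_zero])
      have htw : s₀ ≫ tw = af := Over.OverMorphism.ext (by
        show Spec.map _ ≫ Spec.map _ ≫ fs = _
        rw [← Category.assoc, ← Spec.map_comp, ← hres']
        refine congrArg (fun z => Spec.map z ≫ fs) (CommRingCat.hom_ext (RingHom.ext fun r => ?_))
        show TrivSqZeroExt.fst (TrivSqZeroExt.inl (res r) + TrivSqZeroExt.inr (w r) : DualNumber k) = res r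
        simp)
      obtain ⟨δ, hδ⟩ := exists_der x ((Xo ◁ tw) ≫ υ).left ((hrestrict tw).1 htw)
        (Over.w ((Xo ◁ tw) ≫ υ)) hf
      obtain ⟨α, hα⟩ := hu.2 δ
      refine ⟨α, Subtype.ext (funext fun r => ?_)⟩
      have h2 : tw = t α := by
        refine (hM _ (Φ₁ α)).unique (Over.OverMorphism.ext ?_) (ht α)
        show _ = ψ1 x y f (derComp (dOmega y) α)
        rw [show derComp (dOmega y) α = δ from hα]
        exact hδ
      have h1 : gw = g α := by
        have e : CommRingCat.ofHom gw = CommRingCat.ofHom (g α) := by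
          apply Spec.map_injective
          rw [← cancel_mono fs, hg₁]
          exact congrArg Over.Hom.left h2
        exact congr(($e).hom)
      show TrivSqZeroExt.snd (g α r) = w r
      rw [← h1]
      show TrivSqZeroExt.snd (TrivSqZeroExt.inl (res r) + TrivSqZeroExt.inr (w r) : DualNumber k) = w r
      simp
  rw [Tangent.finrank_tder (σ := σ) (res := res) hres]
  exact (LinearEquiv.ofBijective Ψ hΨ).finrank_eq.symm

end Groth.Agent.HT92.Main
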