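import Groth.Agent.Lib.ArtinFun.DualAut
import Groth.Agent.Lib.Kaehler.DOmega
import Groth.Prelude.Def_KLin

/-!
# Morphisms from an infinitesimal thickening attached to derivations along a morphism
-/

set_option autoImplicit false

noncomputable section

universe u

open CategoryTheory CategoryTheory.Limits AlgebraicGeometry Opposite TopologicalSpace OmegaSh
open Groth.Agent.Lib.Kaehler.Basic

namespace Groth.Agent.HT92.Psi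

variable {k : Type u} [Field k] {X Y : Scheme.{u}} (x : X ⟶ Spec (CommRingCat.of k))
  (y : Y ⟶ Spec (CommRingCat.of k)) (f : X ⟶ Y) (hf : f ≫ y = x)

/-- Derivations along `f`. -/
abbrev DerF : Type u := Der y ((Scheme.Modules.pushforward f).obj (Coh.structureModule X))

variable {y f}

/-- The values. -/
def dl (δ : DerF y f) (V : Y.Opens) : Γ(Y, V) →+ Γ(X, f ⁻¹ᵁ V) :=
  (fnSect X (f ⁻¹ᵁ V)).comp (δ.app V : Γ(Y, V) →+ Γ(Coh.structureModule X, f ⁻¹ᵁ V))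

lemma dl_mul (δ : DerF y f) (V : Y.Opens) (a b : Γ(Y, V)) :
    dl δ V (a * b) = (f.app V).hom a * dl δ V b + (f.app V).hom b * dl δ V a :=
  congrArg (fnSect X (f ⁻¹ᵁ V)) (der_app_mul δ V a b)

lemma dl_one (δ : DerF y f) (V : Y.Opens) : dl δ V 1 = 0 :=
  congrArg (fnSect X (f ⁻¹ᵁ V)) (der_app_one δ V)

lemma dl_res (δ : DerF y f) {V W : Y.Opens} (h : W ≤ V) (a : Γ(Y, V)) :
    dl δ W ((Y.presheaf.map (homOfLE h).op).hom a) =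
      (X.presheaf.map (homOfLE (f.preimage_mono h)).op).hom (dl δ V a) :=
  congrArg (fnSect X (f ⁻¹ᵁ W)) (der_app_map δ h a)

lemma dl_base (δ : DerF y f) (V : (Spec (CommRingCat.of k)).Opens) (c : Γ(Spec (CommRingCat.of k), V)) :
    dl δ (y ⁻¹ᵁ V) ((y.app V).hom c) = 0 :=
  congrArg (fnSect X _) (der_app_app δ V c)

variable (B : Type u) [CommRing B] [Algebra k B]

/-- The thickening. -/
abbrev T : Scheme.{u} := pullback x (Spec.map (CommRingCat.ofHom (algebraMap k B)))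

abbrev qT : T x B ⟶ X := pullback.fst _ _

abbrev pT : T x B ⟶ Spec (CommRingCat.of B) := pullback.snd _ _

/-- Constants. -/
def cst (V : (T x B).Opens) : B →+* Γ(T x B, V) :=
  ((pT x B).appLE ⊤ V (fun _ _ => trivial)).hom.comp (Scheme.ΓSpecIso (CommRingCat.of B)).inv.hom

lemma cst_res {V V' : (T x B).Opens} (h : V' ≤ V) (b : B) :
    ((T x B).presheaf.map (homOfLE h).op).hom (cst x B V b) = cst x B V' b := by
  show (((pT x B).appLE ⊤ V _) ≫ (T x B).presheaf.map _).hom _ = _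
  rw [Scheme.Hom.appLE_map]
  rfl

lemma qT_res {U W : X.Opens} (h : W ≤ U) (s : Γ(X, U)) :
    ((T x B).presheaf.map (homOfLE ((qT x B).preimage_mono h)).op).hom (((qT x B).app U).hom s) =
      ((qT x B).app W).hom ((X.presheaf.map (homOfLE h).op).hom s) :=
  (congr($((qT x B).naturality (homOfLE h).op) s)).symm

variable {B} (e₁ e₂ : B) (h₁₁ : e₁ * e₁ = 0) (h₁₂ : e₁ * e₂ = 0) (h₂₂ : e₂ * e₂ = 0) (δ₁ δ₂ : DerF y f)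

/-- `a ↦ a + e₁ δ₁ a + e₂ δ₂ a`. -/
def φ (V : Y.Opens) : Γ(Y, V) →+* Γ(T x B, qT x B ⁻¹ᵁ (f ⁻¹ᵁ V)) where
  toFun a := ((qT x B).app (f ⁻¹ᵁ V)).hom ((f.app V).hom a) +
    cst x B _ e₁ * ((qT x B).app (f ⁻¹ᵁ V)).hom (dl δ₁ V a) +
    cst x B _ e₂ * ((qT x B).app (f ⁻¹ᵁ V)).hom (dl δ₂ V a)
  map_one' := by simp [dl_one]
  map_zero' := by simp
  map_add' a b := by simp only [map_add]; ring
  map_mul' a b := by
    have c11 : cst x B (qT x B ⁻¹ᵁ (f ⁻¹ᵁ V)) e₁ * cst x B _ e₁ = 0 := by rw [← map_mul, h₁₁, map_zero]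
    have c12 : cst x B (qT x B ⁻¹ᵁ (f ⁻¹ᵁ V)) e₁ * cst x B _ e₂ = 0 := by rw [← map_mul, h₁₂, map_zero]
    have c22 : cst x B (qT x B ⁻¹ᵁ (f ⁻¹ᵁ V)) e₂ * cst x B _ e₂ = 0 := by rw [← map_mul, h₂₂, map_zero]
    simp only [dl_mul, map_add, map_mul]
    linear_combination
      (-(((qT x B).app (f ⁻¹ᵁ V)).hom (dl δ₁ V a) * ((qT x B).app (f ⁻¹ᵁ V)).hom (dl δ₁ V b))) * c11 +
      (-(((qT x B).app (f ⁻¹ᵁ V)).hom (dl δ₁ V a) * ((qT x B).app (f ⁻¹ᵁ V)).hom (dl δ₂ V b) +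
        ((qT x B).app (f ⁻¹ᵁ V)).hom (dl δ₂ V a) * ((qT x B).app (f ⁻¹ᵁ V)).hom (dl δ₁ V b))) * c12 +
      (-(((qT x B).app (f ⁻¹ᵁ V)).hom (dl δ₂ V a) * ((qT x B).app (f ⁻¹ᵁ V)).hom (dl δ₂ V b))) * c22

lemma φ_apply (V : Y.Opens) (a : Γ(Y, V)) :
    φ x e₁ e₂ h₁₁ h₁₂ h₂₂ δ₁ δ₂ V a = ((qT x B).app (f ⁻¹ᵁ V)).hom ((f.app V).hom a) +
      cst x B _ e₁ * ((qT x B).app (f ⁻¹ᵁ V)).hom (dl δ₁ V a) +
      cst x B _ e₂ * ((qT x B).app (f ⁻¹ᵁ V)).hom (dl δ₂ V a) := rfl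

lemma φ_res {V W : Y.Opens} (h : W ≤ V) (a : Γ(Y, V)) :
    ((T x B).presheaf.map (homOfLE ((qT x B).preimage_mono (f.preimage_mono h))).op).hom
        (φ x e₁ e₂ h₁₁ h₁₂ h₂₂ δ₁ δ₂ V a) =
      φ x e₁ e₂ h₁₁ h₁₂ h₂₂ δ₁ δ₂ W ((Y.presheaf.map (homOfLE h).op).hom a) := by
  have hn : (f.app W).hom ((Y.presheaf.map (homOfLE h).op).hom a) =
      (X.presheaf.map (homOfLE (f.preimage_mono h)).op).hom ((f.app V).hom a) :=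
    congr($(f.naturality (homOfLE h).op) a)
  simp only [φ_apply, map_add, map_mul, cst_res, dl_res, hn]
  rw [qT_res x B (f.preimage_mono h), qT_res x B (f.preimage_mono h), qT_res x B (f.preimage_mono h)]

/-- The map of ringed spaces. -/
def ψC : Y.presheaf ⟶ (TopCat.Presheaf.pushforward CommRingCat (qT x B ≫ f).base).obj (T x B).presheaf where
  app V := CommRingCat.ofHom (φ x e₁ e₂ h₁₁ h₁₂ h₂₂ δ₁ δ₂ V.unop)
  naturality V W h := by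
    ext a
    exact (φ_res x e₁ e₂ h₁₁ h₁₂ h₂₂ δ₁ δ₂ h.unop.le a).symm

/-- The morphism. -/
def ψ : T x B ⟶ Y :=
  ⟨⟨⟨(qT x B ≫ f).base, ψC x e₁ e₂ h₁₁ h₁₂ h₂₂ δ₁ δ₂⟩, fun t => ⟨fun a ha => by
    obtain ⟨V, hV, s, rfl⟩ := Y.presheaf.exists_germ_eq a
    erw [PresheafedSpace.stalkMap_germ_apply] at ha
    have hV' : t ∈ qT x B ⁻¹ᵁ (f ⁻¹ᵁ V) := hV
    let g := ((T x B).presheaf.germ (qT x B ⁻¹ᵁ (f ⁻¹ᵁ V)) t hV').hom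
    let q' := ((qT x B).app (f ⁻¹ᵁ V)).hom
    have hn₁ : IsNilpotent (g (cst x B _ e₁ * q' (dl δ₁ V s))) :=
      ⟨2, by rw [← map_pow, mul_pow, pow_two (cst x B _ e₁), ← map_mul, h₁₁, map_zero, zero_mul, map_zero]⟩
    have hn₂ : IsNilpotent (g (cst x B _ e₂ * q' (dl δ₂ V s))) :=
      ⟨2, by rw [← map_pow, mul_pow, pow_two (cst x B _ e₂), ← map_mul, h₂₂, map_zero, zero_mul, map_zero]⟩
    have hn := (Commute.all _ _).isNilpotent_add hn₁ hn₂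
    have ha' : IsUnit (g (φ x e₁ e₂ h₁₁ h₁₂ h₂₂ δ₁ δ₂ V s)) := ha
    rw [φ_apply, map_add, map_add, add_assoc] at ha'
    have h3 := hn.neg.isUnit_add_right_of_commute ha' (Commute.all _ _)
    rw [add_comm, add_neg_cancel_right] at h3
    have h4 : IsUnit (((qT x B ≫ f).stalkMap t).hom ((Y.presheaf.germ V ((qT x B ≫ f) t) hV).hom s)) := by
      rw [Scheme.Hom.germ_stalkMap_apply]
      exact h3
    exact isUnit_of_map_unit ((qT x B ≫ f).stalkMap t).hom _ h4⟩⟩⟩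

lemma ψ_base : (ψ x e₁ e₂ h₁₁ h₁₂ h₂₂ δ₁ δ₂).base = (qT x B ≫ f).base := rfl

lemma ψ_appLE (V : Y.Opens) (e : qT x B ⁻¹ᵁ (f ⁻¹ᵁ V) ≤ ψ x e₁ e₂ h₁₁ h₁₂ h₂₂ δ₁ δ₂ ⁻¹ᵁ V) (a : Γ(Y, V)) :
    ((ψ x e₁ e₂ h₁₁ h₁₂ h₂₂ δ₁ δ₂).appLE V (qT x B ⁻¹ᵁ (f ⁻¹ᵁ V)) e).hom a =
      φ x e₁ e₂ h₁₁ h₁₂ h₂₂ δ₁ δ₂ V a :=
  show ((T x B).presheaf.map (𝟙 _)).hom (φ x e₁ e₂ h₁₁ h₁₂ h₂₂ δ₁ δ₂ V a) = _ by
    rw [(T x B).presheaf.map_id]; rfl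

theorem eq_ψ (g : T x B ⟶ Y) (hb : g.base = (qT x B ≫ f).base)
    (h : ∀ (V : Y.Opens) (e : qT x B ⁻¹ᵁ (f ⁻¹ᵁ V) ≤ g ⁻¹ᵁ V) (a : Γ(Y, V)),
      (g.appLE V (qT x B ⁻¹ᵁ (f ⁻¹ᵁ V)) e).hom a = φ x e₁ e₂ h₁₁ h₁₂ h₂₂ δ₁ δ₂ V a) :
    g = ψ x e₁ e₂ h₁₁ h₁₂ h₂₂ δ₁ δ₂ := by
  refine Scheme.Hom.ext hb fun V => ?_
  ext a
  exact h V _ a

include hf in
theorem ψ_comp : ψ x e₁ e₂ h₁₁ h₁₂ h₂₂ δ₁ δ₂ ≫ y = qT x B ≫ x := by
  subst hf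
  refine ext_of_isAffine ?_
  ext c
  show φ (f ≫ y) e₁ e₂ h₁₁ h₁₂ h₂₂ δ₁ δ₂ (y ⁻¹ᵁ ⊤) ((y.app ⊤).hom c) =
    ((qT (f ≫ y) B).app (f ⁻¹ᵁ (y ⁻¹ᵁ ⊤))).hom ((f.app (y ⁻¹ᵁ ⊤)).hom ((y.app ⊤).hom c))
  rw [φ_apply, dl_base, dl_base, map_zero, mul_zero, add_zero, mul_zero, add_zero]

section Map

variable {C : Type u} [CommRing C] [Algebra k C]

omit [CommRing B] in
/-- The map of thickenings. -/
abbrev mapT {B : Type u} [CommRing B] [Algebra k B] (h : B →ₐ[k] C) : T x C ⟶ T x B :=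
  pullback.map x (Spec.map (CommRingCat.ofHom (algebraMap k C))) x
    (Spec.map (CommRingCat.ofHom (algebraMap k B))) (𝟙 _) (Spec.map (CommRingCat.ofHom h.toRingHom)) (𝟙 _)
    (by simp) (by
      rw [Category.comp_id, ← Spec.map_comp, ← CommRingCat.ofHom_comp]
      exact congrArg (fun r => Spec.map (CommRingCat.ofHom r)) h.comp_algebraMap.symm)

variable (h : B →ₐ[k] C)

lemma mapT_qT : mapT x h ≫ qT x B = qT x C := (pullback.lift_fst _ _ _).trans (Category.comp_id _)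

lemma mapT_pT : mapT x h ≫ pT x B = pT x C ≫ Spec.map (CommRingCat.ofHom h.toRingHom) :=
  pullback.lift_snd _ _ _

lemma mapT_appLE_qT (U : X.Opens) (e : qT x C ⁻¹ᵁ U ≤ mapT x h ⁻¹ᵁ (qT x B ⁻¹ᵁ U)) (s : Γ(X, U)) :
    ((mapT x h).appLE (qT x B ⁻¹ᵁ U) (qT x C ⁻¹ᵁ U) e).hom (((qT x B).app U).hom s) =
      ((qT x C).app U).hom s := by
  show ((qT x B).app U ≫ (mapT x h).appLE _ _ e).hom s = _
  rw [Scheme.Hom.app_eq_appLE, Scheme.Hom.appLE_comp_appLE, Scheme.Hom.app_eq_appLE]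
  simp only [mapT_qT]

lemma mapT_appLE_cst (V : (T x B).Opens) (W : (T x C).Opens) (e : W ≤ mapT x h ⁻¹ᵁ V) (b : B) :
    ((mapT x h).appLE V W e).hom (cst x B V b) = cst x C W (h b) := by
  show ((pT x B).appLE ⊤ V _ ≫ (mapT x h).appLE V W e).hom ((Scheme.ΓSpecIso (CommRingCat.of B)).inv.hom b) = _
  rw [Scheme.Hom.appLE_comp_appLE]
  simp only [mapT_pT]
  rw [← Scheme.Hom.appLE_comp_appLE (pT x C) (Spec.map (CommRingCat.ofHom h.toRingHom)) ⊤ ⊤ W le_top le_top,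
    show (Spec.map (CommRingCat.ofHom h.toRingHom)).appLE ⊤ ⊤ le_top =
      (Spec.map (CommRingCat.ofHom h.toRingHom)).app ⊤ from Scheme.Hom.appLE_eq_app _,
    CommRingCat.comp_apply]
  refine congrArg ((pT x C).appLE ⊤ W le_top).hom ?_
  exact congr(($((Scheme.ΓSpecIso_inv_naturality (CommRingCat.ofHom h.toRingHom)).symm)).hom b)

theorem mapT_ψ (g₁₁ : h e₁ * h e₁ = 0) (g₁₂ : h e₁ * h e₂ = 0) (g₂₂ : h e₂ * h e₂ = 0) :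
    mapT x h ≫ ψ x e₁ e₂ h₁₁ h₁₂ h₂₂ δ₁ δ₂ = ψ x (h e₁) (h e₂) g₁₁ g₁₂ g₂₂ δ₁ δ₂ := by
  refine eq_ψ x _ _ _ _ _ _ _ _ ?_ fun V e a => ?_
  · show (mapT x h).base ≫ (qT x B ≫ f).base = _
    rw [← mapT_qT x h]
    rfl
  have e' : qT x C ⁻¹ᵁ (f ⁻¹ᵁ V) ≤ mapT x h ⁻¹ᵁ (qT x B ⁻¹ᵁ (f ⁻¹ᵁ V)) := by
    rw [← Scheme.Hom.comp_preimage (mapT x h) (qT x B), mapT_qT]
  rw [← Scheme.Hom.appLE_comp_appLE (mapT x h) (ψ x e₁ e₂ h₁₁ h₁₂ h₂₂ δ₁ δ₂) V (qT x B ⁻¹ᵁ (f ⁻¹ᵁ V)) _ le_rfl e',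
    CommRingCat.comp_apply, ψ_appLE, φ_apply, map_add, map_add, map_mul, map_mul, mapT_appLE_cst,
    mapT_appLE_cst, mapT_appLE_qT, mapT_appLE_qT, mapT_appLE_qT, φ_apply]

end Map

end Groth.Agent.HT92.Psi
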