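import Mathlib.RingTheory.Ideal.Cotangent
import Mathlib.RingTheory.DualNumber
import Mathlib.LinearAlgebra.Dual.Lemmas
import Mathlib.LinearAlgebra.Dimension.Basic
import Mathlib.LinearAlgebra.Dimension.Finrank

/-!
# Point derivations and the cotangent space at a rational point
-/

noncomputable section

universe u

namespace Groth.Agent.HT92.Tangent

variable {k O : Type u} [Field k] [CommRing O] (σ : k →+* O) (res : O →+* k)

/-- Derivations at a point, killing the constants. -/
def tder : Submodule k (O → k) where
  carrier := {w | (∀ a b, w (a + b) = w a + w b) ∧ (∀ a b, w (a * b) = res a * w b + res b * w a) ∧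
    ∀ c, w (σ c) = 0}
  zero_mem' := ⟨by simp, by simp, by simp⟩
  add_mem' := by
    rintro v w ⟨v1, v2, v3⟩ ⟨w1, w2, w3⟩
    refine ⟨fun a b => ?_, fun a b => ?_, fun c => ?_⟩
    · simp only [Pi.add_apply, v1, w1]; ring
    · simp only [Pi.add_apply, v2, w2]; ring
    · simp only [Pi.add_apply, v3, w3, add_zero]
  smul_mem' := by
    rintro c w ⟨w1, w2, w3⟩
    refine ⟨fun a b => ?_, fun a b => ?_, fun d => ?_⟩
    · simp only [Pi.smul_apply, smul_eq_mul, w1]; ring
    · simp only [Pi.smul_apply, smul_eq_mul, w2]; ring
    · simp only [Pi.smul_apply, smul_eq_mul, w3, mul_zero]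

/-- The ring map to the dual numbers of a point derivation. -/
def homOf (w : O → k) (hw : w ∈ tder σ res) : O →+* DualNumber k where
  toFun a := TrivSqZeroExt.inl (res a) + TrivSqZeroExt.inr (w a)
  map_one' := by
    have h := hw.2.1 1 1
    rw [mul_one, map_one, one_mul] at h
    rw [map_one, left_eq_add.1 h]
    simp
  map_zero' := by
    have h := hw.1 0 0
    rw [add_zero] at h
    rw [map_zero, left_eq_add.1 h]
    simp
  map_add' a b := by
    ext <;> simp [hw.1]
  map_mul' a b := by
    ext <;> simp [hw.2.1, mul_comm]

variable [IsLocalRing O]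

variable {σ res}

lemma res_sub (hres : ∀ c, res (σ c) = c) (r : O) : res (r - σ (res r)) = 0 := by
  rw [map_sub, hres, sub_self]

theorem ker_res (hres : ∀ c, res (σ c) = c) : RingHom.ker res = IsLocalRing.maximalIdeal O :=
  IsLocalRing.eq_maximalIdeal (RingHom.ker_isMaximal_of_surjective res fun c => ⟨σ c, hres c⟩)

lemma sub_mem (hres : ∀ c, res (σ c) = c) (r : O) : r - σ (res r) ∈ IsLocalRing.maximalIdeal O := by
  rw [← ker_res hres]
  exact res_sub hres r

lemma residue_res (hres : ∀ c, res (σ c) = c) (r : O) :
    IsLocalRing.residue O r = IsLocalRing.residue O (σ (res r)) := by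
  rw [← sub_eq_zero, ← map_sub, IsLocalRing.residue_eq_zero_iff]
  exact sub_mem hres r

/-- The cotangent space has the dimension of the space of point derivations. -/
theorem finrank_tder (hres : ∀ c, res (σ c) = c) :
    Module.finrank (IsLocalRing.ResidueField O) (IsLocalRing.CotangentSpace O) =
      Module.finrank k (tder σ res) := by
  classical
  letI : Algebra k O := σ.toAlgebra
  let j : k →+* IsLocalRing.ResidueField O := (IsLocalRing.residue O).comp σ
  have hj : Function.Bijective j := by
    refine ⟨j.injective, fun a => ?_⟩
    obtain ⟨r, rfl⟩ := IsLocalRing.residue_surjective a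
    exact ⟨res r, (residue_res hres r).symm⟩
  let V := IsLocalRing.CotangentSpace O
  have e1 : Module.rank k V = Module.rank (IsLocalRing.ResidueField O) V := by
    refine rank_eq_of_equiv_equiv j (AddEquiv.refl V) hj fun c v => ?_
    change c • v = (IsLocalRing.residue O (σ c)) • v
    rw [← IsLocalRing.ResidueField.algebraMap_eq, IsScalarTower.algebraMap_smul]
    exact (algebraMap_smul O c v).symm
  have e2 : Module.finrank (IsLocalRing.ResidueField O) V = Module.finrank k V :=
    congrArg Cardinal.toNat e1.symm
  rw [e2, ← Subspace.dual_finrank_eq]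
  let m := IsLocalRing.maximalIdeal O
  have hm : ∀ {r : O}, r ∈ m → res r = 0 := fun {r} hr => by
    rw [← RingHom.mem_ker, ker_res hres]
    exact hr
  let π : O → V := fun r => m.toCotangent ⟨r - σ (res r), sub_mem hres r⟩
  have hπm : ∀ x : m, π x.1 = m.toCotangent x := fun x => by
    refine congrArg m.toCotangent (Subtype.ext ?_)
    show x.1 - σ (res x.1) = x.1
    rw [hm x.2, map_zero, sub_zero]
  have hπadd : ∀ a b, π (a + b) = π a + π b := fun a b => by
    show m.toCotangent _ = _
    rw [← map_add]
    refine congrArg m.toCotangent (Subtype.ext ?_)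
    show a + b - σ (res (a + b)) = (a - σ (res a)) + (b - σ (res b))
    rw [map_add, map_add]; ring
  have hsm : ∀ (c : k) (x : m), c • m.toCotangent x =
      m.toCotangent ⟨σ c * x.1, m.mul_mem_left _ x.2⟩ := fun c x => by
    rw [← algebraMap_smul O c (m.toCotangent x), ← map_smul]
    rfl
  have hπmul : ∀ a b, π (a * b) = res a • π b + res b • π a := fun a b => by
    simp only [π, hsm, ← map_add]
    rw [Ideal.toCotangent_eq]
    show a * b - σ (res (a * b)) - (σ (res a) * (b - σ (res b)) + σ (res b) * (a - σ (res a))) ∈ m ^ 2
    rw [map_mul, map_mul, pow_two,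
      show a * b - σ (res a) * σ (res b) - (σ (res a) * (b - σ (res b)) + σ (res b) * (a - σ (res a))) =
        (a - σ (res a)) * (b - σ (res b)) by ring]
    exact Ideal.mul_mem_mul (sub_mem hres a) (sub_mem hres b)
  have hπσ : ∀ c, π (σ c) = 0 := fun c => by
    refine (Ideal.toCotangent_eq_zero _ _).2 ?_
    show σ c - σ (res (σ c)) ∈ m ^ 2
    rw [hres, sub_self]
    exact zero_mem _
  let L : Module.Dual k V →ₗ[k] tder σ res :=
    { toFun := fun w => ⟨fun r => w (π r), fun a b => (congrArg w (hπadd a b)).trans (map_add w _ _),
        fun a b => (congrArg w (hπmul a b)).trans (by rw [map_add, map_smul, map_smul]; rfl),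
        fun c => (congrArg w (hπσ c)).trans (map_zero w)⟩
      map_add' := fun v w => rfl
      map_smul' := fun c w => rfl }
  have hL : Function.Bijective L := by
    constructor
    · intro v w h
      refine LinearMap.ext fun z => ?_
      obtain ⟨x, rfl⟩ := m.toCotangent_surjective z
      rw [← hπm]
      exact congrFun (congrArg Subtype.val h) x.1
    · rintro ⟨w, hw1, hw2, hw3⟩
      have hw0 : w 0 = 0 := by
        have h := hw1 0 0
        rw [add_zero] at h
        exact left_eq_add.1 h
      have hsq : ∀ r ∈ m ^ 2, w r = 0 := fun r hr => by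
        rw [pow_two] at hr
        induction hr using Submodule.mul_induction_on' with
        | mem_mul_mem a ha b hb => rw [hw2, hm ha, hm hb, zero_mul, zero_mul, add_zero]
        | add a _ b _ ha hb => rw [hw1, ha, hb, add_zero]
      choose sec hsec using m.toCotangent_surjective
      have hwd : ∀ x : m, w (sec (m.toCotangent x)).1 = w x.1 := fun x => by
        have h := (Ideal.toCotangent_eq _).1 (hsec (m.toCotangent x))
        have e := hw1 ((sec (m.toCotangent x)).1 - x.1) x.1
        rw [sub_add_cancel, hsq _ h, zero_add] at e
        exact e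
      let v : Module.Dual k V :=
        { toFun := fun z => w (sec z).1
          map_add' := fun z z' => by
            conv_lhs => rw [← hsec z, ← hsec z', ← map_add, hwd]
            exact hw1 _ _
          map_smul' := fun c z => by
            conv_lhs => rw [← hsec z, hsm, hwd]
            rw [hw2, hres, hw3, mul_zero, add_zero]
            rfl }
      refine ⟨v, Subtype.ext (funext fun r => ?_)⟩
      show w (sec (m.toCotangent ⟨r - σ (res r), sub_mem hres r⟩)).1 = w r
      rw [hwd]
      have e := hw1 (r - σ (res r)) (σ (res r))
      rw [sub_add_cancel, hw3, add_zero] at e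
      exact e.symm
  exact (LinearEquiv.ofBijective L hL).finrank_eq

end Groth.Agent.HT92.Tangent
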